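import Groth.Agent.Lib.Helper2.MatlisFlat
import Groth.Agent.Lib.Helper2.InjHullLocalize
import Groth.Agent.Lib.Helper2.InjHullMaximal
import Groth.Agent.Lib.Helper2.InjHullRestrict

/-!
# Base change of `E(A/p)` along a flat map with `p B_q = q B_q` (helper8)

Local ingredients for Stacks-style "injective modules stay injective under flat base change whose
fibres are unramified at every prime": the hull `E(A/p)` localised at `p`, the comparison map
`B ⊗_A E → B_q ⊗_{A_p} E_p` (a localisation at `q`), and injectivity of the target.
-/

set_option autoImplicit false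
set_option linter.style.haveILetI false
set_option linter.unusedSectionVars false
universe u
open TensorProduct InjHull

namespace Groth.Agent.H8.InjBC

section Hull
variable {R : Type u} [CommRing R] [IsNoetherianRing R] (p : Ideal R) [p.IsPrime]
  {E : Type u} [AddCommGroup E] [Module R E] {f : (R ⧸ p) →ₗ[R] E}

lemma disjoint_primeCompl : Disjoint (p : Set R) p.primeCompl := by
  rw [Set.disjoint_left]
  intro x hx hx'
  exact hx' hx

/-- `E(R/p)_p` is an injective hull of the residue field of `R_p`. -/
theorem exists_isInjectiveHull_atPrime (hf : IsInjectiveHull f) :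
    ∃ g : IsLocalRing.ResidueField (Localization.AtPrime p) →ₗ[Localization.AtPrime p]
      LocalizedModule p.primeCompl E, IsInjectiveHull g := by
  obtain ⟨g₀, hg₀⟩ := Groth.Agent.Lib.Helper2.exists_isInjectiveHull_localizedModule
    p.primeCompl p hf (disjoint_primeCompl p)
  have hm : p.map (algebraMap R (Localization p.primeCompl)) =
      IsLocalRing.maximalIdeal (Localization.AtPrime p) :=
    Localization.AtPrime.map_eq_maximalIdeal
  let e : (Localization.AtPrime p ⧸ IsLocalRing.maximalIdeal (Localization.AtPrime p))
      ≃ₗ[Localization.AtPrime p]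
      (Localization p.primeCompl ⧸ p.map (algebraMap R (Localization p.primeCompl))) :=
    Submodule.quotEquivOfEq _ _ hm.symm
  exact ⟨g₀ ∘ₗ e.toLinearMap, Groth.Agent.Lib.Helper2.IsInjectiveHull.comp_equiv hg₀ e⟩

end Hull

section Local
variable {A B : Type u} [CommRing A] [CommRing B] [Algebra A B] [IsNoetherianRing A]
  [IsNoetherianRing B] [Module.Flat A B]
  (p : Ideal A) [p.IsPrime] (q : Ideal B) [q.IsPrime] [q.LiesOver p]
  {E : Type u} [AddCommGroup E] [Module A E] {f : (A ⧸ p) →ₗ[A] E}

attribute [local instance] Localization.AtPrime.algebraOfLiesOver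

/-- The local case: `B_q ⊗_{A_p} E(A/p)_p` is an injective `B_q`-module when `p B_q = q B_q`. -/
theorem injective_tensor_atPrime (hf : IsInjectiveHull f)
    (hq : Ideal.map (algebraMap B (Localization.AtPrime q)) (p.map (algebraMap A B)) =
      IsLocalRing.maximalIdeal (Localization.AtPrime q)) :
    Module.Injective (Localization.AtPrime q)
      (Localization.AtPrime q ⊗[Localization.AtPrime p] LocalizedModule p.primeCompl E) := by
  obtain ⟨g, hg⟩ := exists_isInjectiveHull_atPrime p hf
  haveI : IsLocalHom (algebraMap (Localization.AtPrime p) (Localization.AtPrime q)) := by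
    rw [Localization.AtPrime.IsLiesOverAlgebra.algebraMap_eq]
    exact Localization.isLocalHom_localRingHom _ _ _ _
  haveI : IsNoetherianRing (Localization.AtPrime q) :=
    IsLocalization.isNoetherianRing q.primeCompl _ inferInstance
  haveI : IsNoetherianRing (Localization.AtPrime p) :=
    IsLocalization.isNoetherianRing p.primeCompl _ inferInstance
  have hm : (IsLocalRing.maximalIdeal (Localization.AtPrime p)).map
      (algebraMap (Localization.AtPrime p) (Localization.AtPrime q)) =
      IsLocalRing.maximalIdeal (Localization.AtPrime q) := by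
    rw [← hq, ← Localization.AtPrime.map_eq_maximalIdeal, Ideal.map_map,
      ← IsScalarTower.algebraMap_eq A (Localization.AtPrime p) (Localization.AtPrime q),
      Ideal.map_map, ← IsScalarTower.algebraMap_eq A B (Localization.AtPrime q)]
  obtain ⟨g', hg'⟩ := Groth.Agent.Lib.Helper2.exists_isInjectiveHull_baseChange hm hg
  exact hg'.isInjective

/-- The comparison map `B ⊗_A E → B_q ⊗_{A_p} E_p`. -/
noncomputable def cmp : B ⊗[A] E →ₗ[B]
    Localization.AtPrime q ⊗[Localization.AtPrime p] LocalizedModule p.primeCompl E :=
  LinearMap.liftBaseChange B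
    (((TensorProduct.mk (Localization.AtPrime p) (Localization.AtPrime q)
      (LocalizedModule p.primeCompl E) 1).restrictScalars A) ∘ₗ
      LocalizedModule.mkLinearMap p.primeCompl E)

theorem isBaseChange_cmp : IsBaseChange (Localization.AtPrime q) (cmp p q (E := E)) := by
  have h1 : IsBaseChange B (TensorProduct.mk A B E 1) := TensorProduct.isBaseChange A E B
  have h2 : IsBaseChange (Localization.AtPrime p) (LocalizedModule.mkLinearMap p.primeCompl E) :=
    LocalizedModule.isBaseChange _ _
  have h3 : IsBaseChange (Localization.AtPrime q)
      (TensorProduct.mk (Localization.AtPrime p) (Localization.AtPrime q)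
        (LocalizedModule p.primeCompl E) 1) := TensorProduct.isBaseChange _ _ _
  have h4 := IsBaseChange.comp h2 h3
  refine IsBaseChange.of_comp h1 ?_
  convert h4 using 1
  ext e
  simp [cmp]

instance isLocalizedModule_cmp : IsLocalizedModule q.primeCompl (cmp p q (E := E)) :=
  (isLocalizedModule_iff_isBaseChange q.primeCompl (Localization.AtPrime q) _).mpr
    (isBaseChange_cmp p q)

end Local

end Groth.Agent.H8.InjBC
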