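import Groth.Agent.H8.InjBC.Local
import Groth.Agent.S0300
import Groth.Agent.S0307

/-!
# Injective modules under flat base change with unramified primes (helper8)

`injective_baseChange_hull`: for `A → B` flat Noetherian with `p B_q = q B_q` for all primes, and `E`
an injective hull of `A/p`, the module `B ⊗_A E` is injective (Baer's criterion, localising at a
prime `q` over `p` containing the ideal of multipliers which make a given map extend).
`injective_baseChange`: the same for every injective `A`-module.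
-/

set_option autoImplicit false
set_option linter.style.haveILetI false
set_option linter.unusedSectionVars false
universe u
open TensorProduct InjHull

namespace Groth.Agent.H8.InjBC

section
variable {A B : Type u} [CommRing A] [CommRing B] [Algebra A B]
  (p : Ideal A) [p.IsPrime]
  {E : Type u} [AddCommGroup E] [Module A E] {f : (A ⧸ p) →ₗ[A] E}

/-- `B ⊗ E(A/p)` is `pB`-power torsion. -/
lemma isPowerTorsion_baseChange [IsNoetherianRing A] (hf : IsInjectiveHull f) :
    LocCoh.IsPowerTorsion (p.map (algebraMap A B)) (B ⊗[A] E) := by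
  have hpt := Groth.Agent.Lib.Helper2.isPowerTorsion_of_isInjectiveHull_quot p hf
  intro x
  induction x using TensorProduct.induction_on with
  | zero => exact ⟨0, fun a _ => smul_zero a⟩
  | tmul b e =>
    obtain ⟨n, hn⟩ := hpt e
    refine ⟨n, fun c hc => ?_⟩
    apply Groth.Agent.Lib.Helper2.map_smul_tmul_eq_zero (p ^ n) e hn b c
    rwa [Ideal.map_pow]
  | add x y hx hy =>
    obtain ⟨n, hn⟩ := hx
    obtain ⟨m, hm'⟩ := hy
    refine ⟨max n m, fun c hc => ?_⟩
    rw [smul_add, hn c (Ideal.pow_le_pow_right (le_max_left n m) hc),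
      hm' c (Ideal.pow_le_pow_right (le_max_right n m) hc), add_zero]

/-- elements of `A ∖ p` act surjectively on `B ⊗ E(A/p)`. -/
lemma smul_surjective_baseChange (hf : IsInjectiveHull f) (t : A) (ht : t ∉ p)
    (x : B ⊗[A] E) : ∃ y : B ⊗[A] E, algebraMap A B t • y = x := by
  induction x using TensorProduct.induction_on with
  | zero => exact ⟨0, smul_zero _⟩
  | tmul b e =>
    obtain ⟨e', he'⟩ := Groth.Agent.Lib.Helper2.smul_surjective_of_notMem p hf t ht e
    refine ⟨b ⊗ₜ[A] e', ?_⟩
    rw [algebraMap_smul, ← TensorProduct.tmul_smul]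
    exact congrArg _ he'
  | add x y hx hy =>
    obtain ⟨x', hx'⟩ := hx
    obtain ⟨y', hy'⟩ := hy
    exact ⟨x' + y', by rw [smul_add, hx', hy']⟩

/-- elements of `A ∖ p` act injectively on `B ⊗ E(A/p)` for flat `B`. -/
lemma smul_injective_baseChange [Module.Flat A B] (hf : IsInjectiveHull f) (t : A) (ht : t ∉ p)
    (x : B ⊗[A] E) (hx : algebraMap A B t • x = 0) : x = 0 := by
  have hinj := Groth.Agent.Lib.Helper2.smul_injective_of_notMem p hf.toIsEssentialInj t ht
  have h2 := Module.Flat.lTensor_preserves_injective_linearMap (M := B) _ hinj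
  have h3 : ∀ y : B ⊗[A] E, (LinearMap.lsmul A E t).lTensor B y = t • y := by
    intro y
    induction y using TensorProduct.induction_on with
    | zero => simp
    | tmul b e => simp [TensorProduct.tmul_smul]
    | add x y hx hy => rw [map_add, smul_add, hx, hy]
  apply h2
  rw [h3, ← algebraMap_smul B, hx, map_zero]

end

section
variable {A B : Type u} [CommRing A] [CommRing B] [Algebra A B] [IsNoetherianRing A]
  [IsNoetherianRing B] [Module.Flat A B]

attribute [local instance] Localization.AtPrime.algebraOfLiesOver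

/-- The case of an injective hull of `A/p`. -/
theorem injective_baseChange_hull
    (h : ∀ q : PrimeSpectrum B, Ideal.map (algebraMap B (Localization.AtPrime q.asIdeal))
      ((q.asIdeal.comap (algebraMap A B)).map (algebraMap A B)) =
      IsLocalRing.maximalIdeal (Localization.AtPrime q.asIdeal))
    (p : Ideal A) [p.IsPrime] {E : Type u} [AddCommGroup E] [Module A E]
    {f : (A ⧸ p) →ₗ[A] E} (hf : IsInjectiveHull f) :
    Module.Injective B (B ⊗[A] E) := by
  classical
  apply Module.Baer.injective
  intro J φ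
  -- the ideal of multipliers `b` such that `b φ` extends to `B`
  let 𝔠 : Ideal B :=
    { carrier := {b | ∃ m : B ⊗[A] E, ∀ j : J, b • φ j = (j : B) • m}
      zero_mem' := ⟨0, fun j => by rw [zero_smul, smul_zero]⟩
      add_mem' := by
        rintro a b ⟨m, hm⟩ ⟨m', hm'⟩
        exact ⟨m + m', fun j => by rw [add_smul, hm, hm', smul_add]⟩
      smul_mem' := by
        rintro c b ⟨m, hm⟩
        exact ⟨c • m, fun j => by rw [smul_eq_mul, mul_smul, hm, smul_comm]⟩ }
  suffices h1 : (1 : B) ∈ 𝔠 by
    obtain ⟨m, hm⟩ := h1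
    refine ⟨LinearMap.toSpanSingleton B _ m, fun x hx => ?_⟩
    rw [LinearMap.toSpanSingleton_apply]
    have := hm ⟨x, hx⟩
    rw [one_smul] at this
    exact this.symm
  rw [← Ideal.eq_top_iff_one]
  by_contra hne
  -- a power of `pB` lies in `𝔠`
  have hpow : ∃ n : ℕ, (p.map (algebraMap A B)) ^ n ≤ 𝔠 := by
    have hfg : (LinearMap.range φ).FG := by
      rw [LinearMap.range_eq_map]
      exact Submodule.FG.map _ Module.Finite.fg_top
    have hle : LinearMap.range φ ≤
        Groth.Agent.Lib.Helper2.powTorsion (I := B ⊗[A] E) (p.map (algebraMap A B)) := by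
      rw [(Groth.Agent.Lib.Helper2.isPowerTorsion_iff_powTorsion_eq_top _ _).mp
        (isPowerTorsion_baseChange p hf)]
      exact le_top
    obtain ⟨n, hn⟩ := Groth.Agent.Lib.Helper2.exists_pow_le_torsionBySet _ hfg hle
    refine ⟨n, fun b hb => ⟨0, fun j => ?_⟩⟩
    have := hn ⟨j, rfl⟩
    rw [Submodule.mem_torsionBySet_iff] at this
    rw [smul_zero]
    exact this ⟨b, hb⟩
  -- `𝔠` is disjoint from the image of `A ∖ p`
  have hdisj : Disjoint (𝔠 : Set B) (Algebra.algebraMapSubmonoid B p.primeCompl) := by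
    rw [Set.disjoint_left]
    rintro _ ⟨m, hm⟩ ⟨t, ht, rfl⟩
    apply hne
    rw [Ideal.eq_top_iff_one]
    obtain ⟨m', rfl⟩ := smul_surjective_baseChange (B := B) p hf t ht m
    refine ⟨m', fun j => ?_⟩
    rw [one_smul]
    have h0 : algebraMap A B t • (φ j - (j : B) • m') = 0 := by
      rw [smul_sub, hm j, smul_comm, sub_self]
    exact sub_eq_zero.mp (smul_injective_baseChange p hf t ht _ h0)
  obtain ⟨q, hqp, hcq, hqdisj⟩ := Ideal.exists_le_prime_disjoint 𝔠 _ hdisj
  have hcomap : q.comap (algebraMap A B) = p := by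
    apply le_antisymm
    · intro a ha
      by_contra hap
      exact Set.disjoint_left.mp hqdisj ha ⟨a, hap, rfl⟩
    · obtain ⟨n, hn⟩ := hpow
      rw [← Ideal.map_le_iff_le_comap]
      exact hqp.le_of_pow_le (hn.trans hcq)
  haveI : q.LiesOver p := ⟨hcomap.symm⟩
  have hq := h ⟨q, hqp⟩
  simp only [hcomap] at hq
  -- the localised module is injective over `B`
  have hN := injective_tensor_atPrime p q hf hq
  have hNB : Module.Injective B
      (Localization.AtPrime q ⊗[Localization.AtPrime p] LocalizedModule p.primeCompl E) :=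
    Groth.Agent.Lib.Helper2.injective_restrictScalars_of_flat B (Localization.AtPrime q) _ hN
  obtain ⟨ψ, hψ⟩ := Module.Injective.extension_property B _ J B J.subtype
    Subtype.val_injective ((cmp p q (E := E)) ∘ₗ φ)
  obtain ⟨⟨x, s⟩, hxs⟩ := IsLocalizedModule.surj q.primeCompl (cmp p q (E := E)) (ψ 1)
  simp only at hxs
  have hψj : ∀ j : J, cmp p q (φ j) = (j : B) • ψ 1 := by
    intro j
    have := LinearMap.congr_fun hψ j
    rw [LinearMap.comp_apply, LinearMap.comp_apply, Submodule.subtype_apply] at this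
    rw [← this, ← map_smul, smul_eq_mul, mul_one]
  have hker : ∀ j : J, ∃ t : q.primeCompl, t • ((s : B) • φ j - (j : B) • x) = 0 := by
    intro j
    rw [← IsLocalizedModule.eq_zero_iff q.primeCompl (cmp p q (E := E))]
    rw [map_sub, map_smul, map_smul, hψj, ← hxs, Submonoid.smul_def, smul_comm, sub_self]
  choose t ht using hker
  obtain ⟨gen, hgen⟩ := (IsNoetherian.noetherian J : J.FG)
  -- a common multiplier for the generators
  let T : B := ∏ g ∈ gen.attach, ((t ⟨g.1, hgen ▸ Submodule.subset_span g.2⟩ : q.primeCompl) : B)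
  have hT : T ∉ q := by
    intro hTq
    obtain ⟨g, _, hg⟩ := (hqp.prod_mem_iff).mp hTq
    exact (t _).2 hg
  have hTgen : ∀ (g : B) (hg : g ∈ gen),
      T • ((s : B) • φ ⟨g, hgen ▸ Submodule.subset_span hg⟩ - g • x) = 0 := by
    intro g hg
    have hdvd : ((t ⟨g, hgen ▸ Submodule.subset_span hg⟩ : q.primeCompl) : B) ∣ T :=
      Finset.dvd_prod_of_mem (fun g' : {y // y ∈ gen} =>
        ((t ⟨g'.1, hgen ▸ Submodule.subset_span g'.2⟩ : q.primeCompl) : B))
        (Finset.mem_attach gen ⟨g, hg⟩)
    obtain ⟨c, hc⟩ := hdvd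
    have := ht ⟨g, hgen ▸ Submodule.subset_span hg⟩
    rw [Submonoid.smul_def] at this
    rw [hc, mul_comm, mul_smul, this, smul_zero]
  have hall : ∀ (j : B) (hj : j ∈ Submodule.span B (gen : Set B)),
      (T * (s : B)) • φ ⟨j, hgen ▸ hj⟩ = j • (T • x) := by
    intro j hj
    induction hj using Submodule.span_induction with
    | mem g hg =>
      have := hTgen g hg
      rw [smul_sub, sub_eq_zero] at this
      rw [mul_smul, this, smul_comm]
    | zero =>
      have : (⟨0, hgen ▸ Submodule.zero_mem _⟩ : J) = 0 := rfl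
      rw [this, map_zero, smul_zero, zero_smul]
    | add a b ha hb iha ihb =>
      have : (⟨a + b, hgen ▸ Submodule.add_mem _ ha hb⟩ : J) =
          ⟨a, hgen ▸ ha⟩ + ⟨b, hgen ▸ hb⟩ := rfl
      rw [this, map_add, smul_add, iha, ihb, add_smul]
    | smul c a ha iha =>
      have : (⟨c • a, hgen ▸ Submodule.smul_mem _ c ha⟩ : J) = c • ⟨a, hgen ▸ ha⟩ := rfl
      rw [this, map_smul, smul_comm, iha, smul_assoc]
  have hmem : T * (s : B) ∈ 𝔠 := by
    refine ⟨T • x, fun j => ?_⟩
    exact hall j.1 (hgen ▸ j.2)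
  exact (hqp.mul_mem_iff_mem_or_mem.mp (hcq hmem)).elim hT s.2

end

end Groth.Agent.H8.InjBC
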